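import Mathlib.RingTheory.AdicCompletion.AsTensorProduct
import Mathlib.RingTheory.AdicCompletion.Algebra
import Mathlib.RingTheory.RingHom.Flat
import Mathlib.Algebra.Category.Ring.Limits
import Mathlib.CategoryTheory.Functor.OfSequence
import Mathlib.CategoryTheory.Limits.ConcreteCategory.Basic

/-!
# An inverse limit of the quotients `A/I^(n+1)` is the adic completion
-/

universe u

open CategoryTheory CategoryTheory.Limits Opposite

namespace ComplFlat

variable {A : Type u} [CommRing A] (I : Ideal A)

/-- the map on the completion induced by a surjection `c : A →+* B` killing `I^(n+1)` -/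
noncomputable def evalTo {B : Type u} [CommRing B] (n : ℕ) (c : A →+* B) (hker : I ^ (n + 1) ≤ RingHom.ker c) :
    AdicCompletion I A →+* B :=
  (Ideal.Quotient.lift (I ^ (n + 1)) c fun _ ha => hker ha).comp (AdicCompletion.evalₐ I (n + 1)).toRingHom

theorem evalTo_mk {B : Type u} [CommRing B] (n : ℕ) (c : A →+* B) (hker : I ^ (n + 1) ≤ RingHom.ker c)
    (a : AdicCompletion.AdicCauchySequence I A) :
    evalTo I n c hker (AdicCompletion.mk I A a) = c (a.val (n + 1)) := by
  show Ideal.Quotient.lift (I ^ (n + 1)) c (fun _ ha => hker ha) (AdicCompletion.evalₐ I (n + 1) (AdicCompletion.mk I A a)) = _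
  rw [AdicCompletion.evalₐ_mk]
  rfl

theorem evalTo_algebraMap {B : Type u} [CommRing B] (n : ℕ) (c : A →+* B) (hker : I ^ (n + 1) ≤ RingHom.ker c)
    (a : A) : evalTo I n c hker (algebraMap A (AdicCompletion I A) a) = c a := by
  show Ideal.Quotient.lift (I ^ (n + 1)) c (fun _ ha => hker ha) (AdicCompletion.evalₐ I (n + 1) (algebraMap A _ a)) = _
  rw [AlgHom.commutes]
  rfl

theorem flat_of_isLimit [IsNoetherianRing A]
    (K : ℕᵒᵖ ⥤ CommRingCat.{u}) (t : Cone K) (ht : IsLimit t)
    (ι : A →+* t.pt) (c : ∀ n, A →+* K.obj (op n))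
    (hι : ∀ n, (t.π.app (op n)).hom.comp ι = c n)
    (hsurj : ∀ n, Function.Surjective (c n))
    (hker : ∀ n, RingHom.ker (c n) = I ^ (n + 1)) :
    ι.Flat := by
  have hstep : ∀ n, (K.map (homOfLE (Nat.le_add_right n 1)).op).hom.comp (c (n + 1)) = c n := by
    intro n
    rw [← hι (n + 1), ← hι n, ← RingHom.comp_assoc, ← CommRingCat.hom_comp, t.w]
  let ψ : ∀ n, CommRingCat.of (AdicCompletion I A) ⟶ K.obj (op n) := fun n =>
    CommRingCat.ofHom (evalTo I n (c n) (hker n).ge)
  let s : Cone K :=
    { pt := CommRingCat.of (AdicCompletion I A)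
      π := NatTrans.ofOpSequence ψ fun n => by
        ext z
        induction z using AdicCompletion.induction_on with
        | h a =>
          show evalTo I n (c n) (hker n).ge (AdicCompletion.mk I A a) =
            (K.map (homOfLE (Nat.le_add_right n 1)).op).hom (evalTo I (n + 1) (c (n + 1)) (hker (n + 1)).ge (AdicCompletion.mk I A a))
          rw [evalTo_mk, evalTo_mk, ← RingHom.comp_apply, hstep n, ← sub_eq_zero, ← map_sub,
            ← RingHom.mem_ker, hker n]
          have := a.property (Nat.le_succ (n + 1))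
          simpa [SModEq.sub_mem] using this }
  let L : AdicCompletion I A →+* t.pt := (ht.lift s).hom
  have hL : ∀ n z, (t.π.app (op n)).hom (L z) = evalTo I n (c n) (hker n).ge z := fun n z =>
    congrArg (fun k => (ConcreteCategory.hom k) z) (ht.fac s (op n))
  have hext : ∀ x y : t.pt, (∀ n, (t.π.app (op n)).hom x = (t.π.app (op n)).hom y) → x = y :=
    fun x y h => Concrete.isLimit_ext K ht x y fun j => h j.unop
  have hcomp : L.comp (algebraMap A (AdicCompletion I A)) = ι := by
    ext a
    refine hext _ _ fun n => ?_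
    rw [RingHom.comp_apply, hL, evalTo_algebraMap, ← RingHom.comp_apply (t.π.app (op n)).hom ι, hι]
  have hinj : Function.Injective L := by
    intro x y hxy
    apply AdicCompletion.ext_evalₐ
    rintro (_ | n)
    · have hs : Subsingleton (A ⧸ I ^ 0) :=
        Ideal.Quotient.subsingleton_iff.2 (by rw [pow_zero, Ideal.one_eq_top])
      exact Subsingleton.elim _ _
    · have h := congrArg (fun z => (t.π.app (op n)).hom z) hxy
      simp only [hL] at h
      exact (RingHom.lift_injective_of_ker_le_ideal (I ^ (n + 1)) (fun _ ha => (hker n).ge ha) (hker n).le) h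
  have hsur : Function.Surjective L := by
    intro w
    choose a ha using fun n => hsurj n ((t.π.app (op n)).hom w)
    have hc : ∀ n, a n ≡ a (n + 1) [SMOD (I ^ n • ⊤ : Submodule A A)] := by
      intro n
      have h1 : c n (a (n + 1)) = c n (a n) := by
        rw [ha n, ← hstep n, RingHom.comp_apply, ha (n + 1), ← CommRingCat.comp_apply, t.w]
      have h2 : a n - a (n + 1) ∈ I ^ (n + 1) := by
        rw [← hker n, RingHom.mem_ker, map_sub, h1, sub_self]
      simpa [SModEq.sub_mem] using Ideal.pow_le_pow_right (Nat.le_succ n) h2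
    refine ⟨AdicCompletion.mk I A (AdicCompletion.AdicCauchySequence.mk I A a hc), hext _ _ fun n => ?_⟩
    rw [hL, evalTo_mk]
    show c n (a (n + 1)) = _
    rw [← hstep n, RingHom.comp_apply, ha (n + 1), ← CommRingCat.comp_apply, t.w]
  rw [← hcomp]
  refine RingHom.Flat.comp ?_ (RingHom.Flat.of_bijective ⟨hinj, hsur⟩)
  exact RingHom.flat_algebraMap_iff.2 inferInstance

end ComplFlat
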