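import Mathlib.Topology.Sheaves.Stalks
import Mathlib.Algebra.Category.Ring.FilteredColimits
import Mathlib.RingTheory.Flat.EquationalCriterion
import Mathlib.RingTheory.RingHom.Flat

/-!
# Flatness of stalk maps from flatness on a basis

For an inducing continuous map `p : T ⟶ X`, presheaves of rings `F` on `X`, `G` on `T` and a map
`c : F ⟶ p_* G`, if `c` is flat on sections over the members of a basis then the stalk maps are flat.
-/

universe u

open CategoryTheory TopologicalSpace Opposite

namespace ComplFlat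

theorem exists_basis_nhd {X : TopCat.{u}} {B : Set (Opens X)} (hB : Opens.IsBasis B)
    {ι : Type*} [Finite ι] (W : ι → Opens X) {y : X} (hy : ∀ i, y ∈ W i) (V : Opens X) (hV : y ∈ V) :
    ∃ U ∈ B, y ∈ U ∧ U ≤ V ∧ ∀ i, U ≤ W i := by
  have hm : y ∈ (V ⊓ ⟨⋂ i, (W i : Set X), isOpen_iInter_of_finite fun i => (W i).isOpen⟩ : Opens X) :=
    ⟨hV, Set.mem_iInter.2 hy⟩
  obtain ⟨U, hUB, hyU, hU⟩ := Opens.isBasis_iff_nbhd.1 hB hm
  exact ⟨U, hUB, hyU, fun z hz => (hU hz).1, fun i z hz => Set.mem_iInter.1 (hU hz).2 i⟩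

theorem exists_preimage_le {T X : TopCat.{u}} (p : T ⟶ X) (hp : Topology.IsInducing p)
    (W : Opens T) {x : T} (hx : x ∈ W) : ∃ V : Opens X, p x ∈ V ∧ (Opens.map p).obj V ≤ W := by
  obtain ⟨S, hS, hSW⟩ := hp.isOpen_iff.1 W.isOpen
  refine ⟨⟨S, hS⟩, ?_, fun z hz => ?_⟩
  · show x ∈ p ⁻¹' S
    rw [hSW]; exact hx
  · show z ∈ (W : Set T)
    rw [← hSW]; exact hz

/-- the components of `c`, with the codomain written as sections of `G` -/
noncomputable abbrev comp' {T X : TopCat.{u}} (p : T ⟶ X) {F : TopCat.Presheaf CommRingCat.{u} X}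
    {G : TopCat.Presheaf CommRingCat.{u} T}
    (c : F ⟶ (TopCat.Presheaf.pushforward CommRingCat.{u} p).obj G) (U : Opens X) :
    F.obj (op U) ⟶ G.obj (op ((Opens.map p).obj U)) := c.app (op U)

theorem stalkMap_flat {T X : TopCat.{u}} (p : T ⟶ X) (hp : Topology.IsInducing p)
    (F : TopCat.Presheaf CommRingCat.{u} X) (G : TopCat.Presheaf CommRingCat.{u} T)
    (c : F ⟶ (TopCat.Presheaf.pushforward CommRingCat.{u} p).obj G) (x : T)
    {B : Set (Opens X)} (hB : Opens.IsBasis B)
    (hflat : ∀ U ∈ B, p x ∈ U → (comp' p c U).hom.Flat) :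
    ((TopCat.Presheaf.stalkFunctor CommRingCat.{u} (p x)).map c ≫
      TopCat.Presheaf.stalkPushforward CommRingCat.{u} p G x).hom.Flat := by
  set φ := ((TopCat.Presheaf.stalkFunctor CommRingCat.{u} (p x)).map c ≫
      TopCat.Presheaf.stalkPushforward CommRingCat.{u} p G x) with hφ
  have hgerm : ∀ (U : Opens X) (hU : p x ∈ U) (a : F.obj (op U)),
      φ (F.germ U (p x) hU a) = G.germ ((Opens.map p).obj U) x hU (comp' p c U a) := by
    intro U hU a
    show (ConcreteCategory.hom (TopCat.Presheaf.stalkPushforward CommRingCat.{u} p G x))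
      ((ConcreteCategory.hom ((TopCat.Presheaf.stalkFunctor CommRingCat.{u} (p x)).map c))
        (F.germ U (p x) hU a)) = _
    have e1 : (ConcreteCategory.hom ((TopCat.Presheaf.stalkFunctor CommRingCat.{u} (p x)).map c))
        (F.germ U (p x) hU a) = TopCat.Presheaf.germ ((TopCat.Presheaf.pushforward CommRingCat.{u} p).obj G)
          U (p x) hU (c.app (op U) a) :=
      TopCat.Presheaf.stalkFunctor_map_germ_apply U (p x) hU c a
    refine (congrArg (ConcreteCategory.hom (TopCat.Presheaf.stalkPushforward CommRingCat.{u} p G x)) e1).trans ?_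
    exact congrArg (fun k => (ConcreteCategory.hom k) (c.app (op U) a))
      (TopCat.Presheaf.stalkPushforward_germ CommRingCat.{u} p G U x hU)
  algebraize [φ.hom]
  show Module.Flat _ _
  refine Module.Flat.of_forall_isTrivialRelation fun {l} f b hfb => ?_
  -- representatives
  choose Wf hWf af haf using fun i => F.exists_germ_eq (x := p x) (f i)
  choose Wb hWb ab hab using fun i => G.exists_germ_eq (x := x) (b i)
  choose Vb hVb hVbW using fun i => exists_preimage_le p hp (Wb i) (hWb i)
  obtain ⟨U, hUB, hyU, -, hUW⟩ := exists_basis_nhd hB (fun i : Fin l ⊕ Fin l => i.elim Wf Vb)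
    (y := p x) (by rintro (i | i) <;> simp [hWf, hVb]) ⊤ trivial
  let α : Fin l → F.obj (op U) := fun i => F.map (homOfLE (hUW (Sum.inl i))).op (af i)
  let β : Fin l → G.obj (op ((Opens.map p).obj U)) := fun i =>
    G.map (homOfLE (((Opens.map p).map (homOfLE (hUW (Sum.inr i)))).le.trans (hVbW i))).op (ab i)
  have hα : ∀ i, F.germ U (p x) hyU (α i) = f i := fun i => by
    rw [← haf i]; exact F.germ_res_apply _ _ _ _
  have hβ : ∀ i, G.germ ((Opens.map p).obj U) x hyU (β i) = b i := fun i => by
    rw [← hab i]; exact G.germ_res_apply _ _ _ _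
  have hz : G.germ ((Opens.map p).obj U) x hyU (∑ i, comp' p c U (α i) * β i) = 0 := by
    rw [← hfb, map_sum]
    refine Finset.sum_congr rfl fun i _ => ?_
    rw [map_mul, hβ, ← hgerm U hyU (α i), hα, Algebra.smul_def]
    rfl
  obtain ⟨W, hxW, i₁, i₂, hW⟩ := G.germ_eq (U := (Opens.map p).obj U) (V := (Opens.map p).obj U) x hyU hyU _ 0 (hz.trans (map_zero _).symm)
  obtain ⟨V, hxV, hVW⟩ := exists_preimage_le p hp W hxW
  obtain ⟨U', hU'B, hyU', hU'U, hU'V⟩ := exists_basis_nhd hB (fun _ : Unit => V) (y := p x)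
    (fun _ => hxV) U hyU
  have hle : (Opens.map p).obj U' ≤ (Opens.map p).obj U := fun z hz => hU'U hz
  have hleW : (Opens.map p).obj U' ≤ W := fun z hz => hVW (hU'V () hz)
  let α' : Fin l → F.obj (op U') := fun i => F.map (homOfLE hU'U).op (α i)
  let β' : Fin l → G.obj (op ((Opens.map p).obj U')) := fun i => G.map (homOfLE hle).op (β i)
  have hc : ∀ i, comp' p c U' (α' i) = G.map (homOfLE hle).op (comp' p c U (α i)) := by
    intro i
    exact congrArg (fun k => (ConcreteCategory.hom k) (α i)) (c.naturality (homOfLE hU'U).op)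
  have h0 : ∑ i, comp' p c U' (α' i) * β' i = 0 := by
    have e : ∀ (j : (Opens.map p).obj U' ⟶ (Opens.map p).obj U) (s : G.obj (op ((Opens.map p).obj U))),
        G.map j.op s = G.map (homOfLE hleW).op (G.map i₁.op s) := fun j s => by
      rw [← ConcreteCategory.comp_apply, ← G.map_comp, ← op_comp]
      congr
    have := congrArg (fun t => G.map (homOfLE hleW).op t) hW
    simp only [map_zero] at this
    rw [← e (homOfLE hle)] at this
    simpa [map_sum, map_mul, hc, β'] using this
  have hF : (comp' p c U').hom.Flat := hflat U' hU'B hyU'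
  algebraize [(comp' p c U').hom]
  obtain ⟨κ, a, y, hy, ha⟩ := Module.Flat.iff_forall_isTrivialRelation.1
    (inferInstanceAs (Module.Flat (F.obj (op U')) (G.obj (op ((Opens.map p).obj U'))))) (f := α') (x := β')
    (by simpa [Algebra.smul_def, RingHom.algebraMap_toAlgebra] using h0)
  refine ⟨κ, fun i j => F.germ U' (p x) hyU' (a i j),
    fun j => G.germ ((Opens.map p).obj U') x hyU' (y j), fun i => ?_, fun j => ?_⟩
  · rw [← hβ i, ← G.germ_res_apply (homOfLE hle) x hyU' (β i)]
    show G.germ _ x hyU' (β' i) = _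
    rw [hy i, map_sum]
    refine Finset.sum_congr rfl fun j _ => ?_
    exact (map_mul (G.germ ((Opens.map p).obj U') x hyU').hom (comp' p c U' (a i j)) (y j)).trans
      (congrArg (fun t => t * G.germ ((Opens.map p).obj U') x hyU' (y j)) (hgerm U' hyU' (a i j)).symm)
  · have : ∀ i, f i = F.germ U' (p x) hyU' (α' i) := fun i => by
      rw [← hα i]; exact (F.germ_res_apply _ _ _ _).symm
    simp only [this]
    refine Eq.trans ?_ ((congrArg (F.germ U' (p x) hyU').hom (ha j)).trans (map_zero _))
    rw [map_sum]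
    exact Finset.sum_congr rfl fun i _ => (map_mul (F.germ U' (p x) hyU').hom _ _).symm

end ComplFlat
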